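import Cfsg.Agent.BZ.L.B3.LatS_m3
import Cfsg.Agent.BZ.L.K3.E6S_m3
import Cfsg.Agent.BZ.E2.All_m3
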